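import Mathlib.FieldTheory.IsAlgClosed.Basic
import Mathlib.RingTheory.IntegralClosure.IsIntegralClosure.Basic
import Mathlib.RingTheory.Localization.FractionRing
import Mathlib.RingTheory.Ideal.GoingUp
import Mathlib.RingTheory.Algebraic.Integral

/-!
# Geometric points of integral algebras with a prescribed kernel
-/

universe u

namespace Groth.Agent.H84Misc

/-- A prime of an integral algebra is the kernel of a point with values in any algebraically closed field lying over
the prime below. -/
theorem exists_algHom_ker_eq (R A K : Type u) [CommRing R] [CommRing A] [Algebra R A] [Algebra.IsIntegral R A]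
    [Field K] [IsAlgClosed K] [Algebra R K] (P : Ideal A) [P.IsPrime]
    (h : RingHom.ker (algebraMap R K) = P.comap (algebraMap R A)) :
    ∃ f : A →ₐ[R] K, RingHom.ker f.toRingHom = P := by
  let q := P.comap (algebraMap R A)
  let : Algebra (R ⧸ q) K := (Ideal.Quotient.lift q (algebraMap R K) fun r hr => by
    rw [← RingHom.mem_ker, h]; exact hr).toAlgebra
  have : IsScalarTower R (R ⧸ q) K := .of_algebraMap_eq fun r => rfl
  have hinj : Function.Injective (algebraMap (R ⧸ q) K) := by
    refine (injective_iff_map_eq_zero _).2 fun r hr => ?_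
    obtain ⟨r, rfl⟩ := Ideal.Quotient.mk_surjective r
    rw [Ideal.Quotient.eq_zero_iff_mem]
    change r ∈ P.comap (algebraMap R A)
    rw [← h]
    exact hr
  have : IsIntegral R (1 : A) := Algebra.IsIntegral.isIntegral _
  let g : A ⧸ P →ₐ[R ⧸ q] K := Classical.choice <| by
    have : FaithfulSMul (R ⧸ q) K := (faithfulSMul_iff_algebraMap_injective _ _).2 hinj
    have : Algebra.IsIntegral (R ⧸ q) (A ⧸ P) :=
      Algebra.IsIntegral.tower_top (R := R) (S := R ⧸ q) (T := A ⧸ P)
    exact ⟨IsAlgClosed.lift⟩
  refine ⟨(g.restrictScalars R).comp (Ideal.Quotient.mkₐ R P), ?_⟩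
  have : Algebra.IsIntegral (R ⧸ q) (A ⧸ P) :=
    Algebra.IsIntegral.tower_top (R := R) (S := R ⧸ q) (T := A ⧸ P)
  have hg : RingHom.ker g.toRingHom = ⊥ := by
    refine Ideal.eq_bot_of_comap_eq_bot (R := R ⧸ q) ?_
    rw [eq_bot_iff]
    intro r hr
    rw [Ideal.mem_comap, RingHom.mem_ker] at hr
    change g (algebraMap _ _ r) = 0 at hr
    rw [g.commutes] at hr
    exact (map_eq_zero_iff _ hinj).1 hr
  ext x
  rw [RingHom.mem_ker]
  change g (Ideal.Quotient.mk P x) = 0 ↔ _
  have := RingHom.mem_ker (f := g.toRingHom) (r := Ideal.Quotient.mk P x)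
  rw [hg, Ideal.mem_bot, Ideal.Quotient.eq_zero_iff_mem] at this
  exact this.symm

end Groth.Agent.H84Misc
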